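import Groth.Agent.TCLib.Basic

/-! Tight closedness passes from one system of parameters to every other. -/

set_option autoImplicit false
universe u

open IsLocalRing Ideal

namespace TCLib

variable {R : Type u} [CommRing R]

/-- Avoiding finitely many primes inside a coset of an ideal. -/
theorem exists_add_notMem (x : R) (I : Ideal R) (S : Finset (Ideal R)) (hp : ∀ P ∈ S, P.IsPrime)
    (h : ∀ P ∈ S, x ∈ P → ¬ I ≤ P) : ∃ z ∈ I, ∀ P ∈ S, x + z ∉ P := by
  classical
  induction S using Finset.strongInductionOn with
  | _ S ih =>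
    rcases S.eq_empty_or_nonempty with rfl | hne
    · exact ⟨0, I.zero_mem, fun P hP => absurd hP (Finset.notMem_empty P)⟩
    obtain ⟨P, hP, hmin⟩ := Finset.exists_minimal hne
    obtain ⟨z, hz, hzS⟩ := ih (S.erase P) (Finset.erase_ssubset hP)
      (fun Q hQ => hp Q (Finset.mem_of_mem_erase hQ)) (fun Q hQ => h Q (Finset.mem_of_mem_erase hQ))
    by_cases hxz : x + z ∈ P
    · have hIP : ¬ I ≤ P := fun hle => h P hP (by simpa using sub_mem hxz (hle hz)) hle
      obtain ⟨a, ha, haP⟩ := SetLike.not_le_iff_exists.1 hIP
      have hq : ∀ Q ∈ S.erase P, ∃ q, q ∈ Q ∧ q ∉ P := fun Q hQ => by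
        refine SetLike.not_le_iff_exists.1 fun hle => Finset.ne_of_mem_erase hQ ?_
        exact le_antisymm hle (hmin (Finset.mem_of_mem_erase hQ) hle)
      choose! q hq1 hq2 using hq
      refine ⟨z + a * ∏ Q ∈ S.erase P, q Q, add_mem hz (Ideal.mul_mem_right _ _ ha), fun Q hQ hxQ => ?_⟩
      rw [← add_assoc] at hxQ
      rcases eq_or_ne Q P with rfl | hne'
      · have := hp Q hP
        rcases this.mem_or_mem (show a * ∏ Q' ∈ S.erase Q, q Q' ∈ Q by simpa using sub_mem hxQ hxz) with h1 | h1
        · exact haP h1
        · obtain ⟨Q', hQ', hq'⟩ := this.prod_mem_iff.1 h1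
          exact hq2 Q' hQ' hq'
      · have hQe := Finset.mem_erase.2 ⟨hne', hQ⟩
        refine hzS Q hQe ?_
        have h2 : a * ∏ Q' ∈ S.erase P, q Q' ∈ Q :=
          Ideal.mul_mem_left _ _ (Ideal.mem_of_dvd _ (Finset.dvd_prod_of_mem q hQe) (hq1 Q hQe))
        simpa using sub_mem hxQ h2
    · refine ⟨z, hz, fun Q hQ => ?_⟩
      rcases eq_or_ne Q P with rfl | hne'
      · exact hxz
      · exact hzS Q (Finset.mem_erase.2 ⟨hne', hQ⟩)

variable [LocCoh.IsCohenMacaulayLocalRing R]

theorem eq_maximalIdeal_of_le {P : Ideal R} (hP : P.IsPrime) (h : maximalIdeal R ≤ P) : P = maximalIdeal R :=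
  ((maximalIdeal.isMaximal R).eq_of_le hP.ne_top h).symm

/-- No strictly intermediate prime below the maximal ideal in dimension one. -/
theorem eq_maximalIdeal_of_lt {J : Ideal R} {x : R} (hJx : (J ⊔ span {x}).radical = maximalIdeal R)
    {Q P : Ideal R} (hQ : Q.IsPrime) (hP : P.IsPrime) (hJQ : J ≤ Q) (hlt : Q < P) : P = maximalIdeal R := by
  by_contra hne
  have hxP : x ∉ P := fun hx => hne (eq_maximalIdeal_of_le hP (hJx ▸ hP.radical_le_iff.2
    (sup_le (hJQ.trans hlt.le) ((span_singleton_le_iff_mem _).2 hx))))
  let π := Ideal.Quotient.mk Q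
  have hker : RingHom.ker π = Q := Ideal.mk_ker
  haveI hm' : ((maximalIdeal R).map π).IsPrime :=
    Ideal.map_isPrime_of_surjective Ideal.Quotient.mk_surjective (by rw [hker]; exact le_maximalIdeal hQ.ne_top)
  haveI hP' : (P.map π).IsPrime :=
    Ideal.map_isPrime_of_surjective Ideal.Quotient.mk_surjective (by rw [hker]; exact hlt.le)
  have hmin : (maximalIdeal R).map π ∈ (span {π x}).minimalPrimes := by
    refine ⟨⟨hm', (span_singleton_le_iff_mem _).2 (mem_map_of_mem _ (?_))⟩, fun P'' hP'' _ => ?_⟩
    · exact hJx ▸ le_radical (mem_sup_right (mem_span_singleton_self x))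
    · haveI := hP''.1
      refine Ideal.map_le_iff_le_comap.2 ?_
      rw [← hJx]
      refine (hP''.1.comap π).radical_le_iff.2 (sup_le ?_ ((span_singleton_le_iff_mem _).2 (hP''.2 (mem_span_singleton_self _))))
      exact fun y hy => by
        rw [mem_comap, Quotient.eq_zero_iff_mem.2 (hJQ hy)]
        exact zero_mem _
  have h1 := Ideal.height_le_one_of_isPrincipal_of_mem_minimalPrimes _ _ hmin
  have hlt2 : P.map π < (maximalIdeal R).map π := by
    refine lt_of_le_of_ne (map_mono (le_maximalIdeal hP.ne_top)) fun he => hne ?_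
    have := congrArg (Ideal.comap π) he
    rwa [comap_map_of_surjective _ Ideal.Quotient.mk_surjective,
      comap_map_of_surjective _ Ideal.Quotient.mk_surjective, ← RingHom.ker_eq_comap_bot, hker,
      sup_eq_left.2 hlt.le, sup_eq_left.2 (le_maximalIdeal hQ.ne_top)] at this
  have hlt3 : (⊥ : Ideal (R ⧸ Q)) < P.map π := by
    refine bot_lt_iff_ne_bot.2 fun he => hlt.ne (le_antisymm hlt.le ?_)
    rw [map_eq_bot_iff_le_ker, hker] at he
    exact he
  haveI : (⊥ : Ideal (R ⧸ Q)).IsPrime := Ideal.isPrime_bot
  have h2 := Ideal.height_strict_mono_of_isPrime hlt2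
  have h3 := Ideal.height_strict_mono_of_isPrime hlt3
  have h4 : (P.map π).height = 0 := ENat.lt_one_iff_eq_zero.1 (h2.trans_le h1)
  rw [h4] at h3
  exact not_lt_zero h3

variable (p : ℕ) [Fact p.Prime] [CharP R p] {n : ℕ}

/-- The mixed family. -/
def mix (k : ℕ) (a c : Fin n → R) : Fin n → R := fun j => if (j : ℕ) < k then a j else c j

/-- Generators of `(b)` forming systems of parameters with initial segments of `a`. -/
theorem exists_mixed (hdim : ringKrullDim R = n) (a b : Fin n → R) (ha : (gen a).radical = maximalIdeal R)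
    (hb : (gen b).radical = maximalIdeal R) :
    ∃ c : Fin n → R, gen c = gen b ∧ ∀ k ≤ n, (gen (mix k a c)).radical = maximalIdeal R := by
  classical
  suffices h : ∀ j ≤ n, ∃ c : Fin n → R, gen c = gen b ∧ ∀ k, n - j ≤ k → k ≤ n →
      (gen (mix k a c)).radical = maximalIdeal R by
    obtain ⟨c, hc, hck⟩ := h n le_rfl
    exact ⟨c, hc, fun k hk => hck k (by omega) hk⟩
  intro j
  induction j with
  | zero =>
    intro _
    refine ⟨b, rfl, fun k hk hkn => ?_⟩
    rw [show mix k a b = a from funext fun i => if_pos (by omega)]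
    exact ha
  | succ j ih =>
    intro hj
    obtain ⟨c, hc, hck⟩ := ih (by omega)
    let i : Fin n := ⟨n - (j + 1), by omega⟩
    let v := mix (n - j) a c
    have hv : (gen v).radical = maximalIdeal R := hck _ le_rfl (by omega)
    have hJx : (rest v i ⊔ span {v i}).radical = maximalIdeal R := by rw [sup_comm, ← gen_eq, hv]
    have hJm : rest v i ≤ maximalIdeal R := hJx ▸ le_sup_left.trans le_radical
    have hfin : (rest v i).minimalPrimes.Finite := Ideal.finite_minimalPrimes_of_isNoetherianRing R _
    have hne : maximalIdeal R ∉ (rest v i).minimalPrimes := fun hmem => by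
      have h1 := Ideal.height_le_card_of_mem_minimalPrimes_span ((Set.toFinite _).image v) hmem
      have h2 : (v '' ({i}ᶜ : Set (Fin n))).ncard ≤ n - 1 := by
        refine (Set.ncard_image_le (Set.toFinite _)).trans ?_
        rw [Set.ncard_compl, Set.ncard_singleton, Nat.card_eq_fintype_card, Fintype.card_fin]
      have h3 := IsLocalRing.maximalIdeal_height_eq_ringKrullDim (R := R)
      rw [hdim] at h3
      have h4 : (maximalIdeal R).height = (n : ℕ∞) := WithBot.coe_inj.1 h3
      rw [h4] at h1
      have h5 := Nat.cast_le.1 h1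
      omega
    obtain ⟨z, hz, hzS⟩ := exists_add_notMem (c i) (rest c i) hfin.toFinset
      (fun P hP => (hfin.mem_toFinset.1 hP).1.1) (fun P hP hciP hle => hne (by
        have hP' := hfin.mem_toFinset.1 hP
        have hmP : maximalIdeal R ≤ P := by
          rw [← hb, ← hc, gen_eq c i]
          exact hP'.1.1.radical_le_iff.2 (sup_le ((span_singleton_le_iff_mem _).2 hciP) hle)
        rwa [← eq_maximalIdeal_of_le hP'.1.1 hmP]))
    let c' := Function.update c i (c i + z)
    refine ⟨c', ?_, fun k hk hkn => ?_⟩
    · rw [gen_update, ← hc, gen_eq c i]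
      refine le_antisymm (sup_le ((span_singleton_le_iff_mem _).2
        (add_mem (mem_sup_left (mem_span_singleton_self _)) (mem_sup_right hz))) le_sup_right)
        (sup_le ((span_singleton_le_iff_mem _).2 ?_) le_sup_right)
      have h6 : c i + z - z ∈ span {c i + z} ⊔ rest c i :=
        sub_mem (mem_sup_left (mem_span_singleton_self _)) (mem_sup_right hz)
      rwa [add_sub_cancel_right] at h6
    · rcases Nat.lt_or_ge k (n - j) with hlt | hge
      · have hw : mix k a c' = Function.update v i (c i + z) := by
          funext l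
          rcases eq_or_ne l i with rfl | hl
          · rw [Function.update_self]
            simp only [mix, c', Function.update_self, i]
            exact if_neg (by omega)
          · have hl' : (l : ℕ) ≠ n - (j + 1) := fun h => hl (Fin.ext h)
            rw [Function.update_of_ne hl]
            simp only [mix, c', v, Function.update_of_ne hl]
            split_ifs <;> first | rfl | omega
        rw [hw, gen_update]
        refine le_antisymm ?_ ?_
        · refine (maximalIdeal.isMaximal R).isPrime.radical_le_iff.2 (sup_le ((span_singleton_le_iff_mem _).2 ?_) hJm)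
          exact hb ▸ le_radical (hc ▸ (gen_eq c i ▸ add_mem (mem_sup_left (mem_span_singleton_self _)) (mem_sup_right hz)))
        · rw [radical_eq_sInf]
          refine le_sInf fun P hP => ?_
          obtain ⟨hPle, hPp⟩ := hP
          obtain ⟨Q, hQ, hQP⟩ := Ideal.exists_minimalPrimes_le (le_sup_right.trans hPle)
          have hne' : Q ≠ P := fun h => hzS Q (hfin.mem_toFinset.2 hQ)
            (h ▸ hPle (mem_sup_left (mem_span_singleton_self _)))
          exact (eq_maximalIdeal_of_lt hJx hQ.1.1 hPp hQ.1.2 (lt_of_le_of_ne hQP hne')).ge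
      · rw [show mix k a c' = mix k a c from funext fun l => ?_]
        · exact hck k hge hkn
        · simp only [mix, c']
          split_ifs with h
          · rfl
          · exact Function.update_of_ne (fun he => h (by rw [he]; simp only [i]; omega)) _ _

/-- Tight closedness passes to every system of parameters. -/
theorem tightlyClosed_of_sop (hdim : ringKrullDim R = n) (a b : Fin n → R)
    (ha : (gen a).radical = maximalIdeal R) (hb : (gen b).radical = maximalIdeal R)
    (hq : LocCoh.IsTightlyClosed p (gen a)) : LocCoh.IsTightlyClosed p (gen b) := by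
  classical
  have hn : Fintype.card (Fin n) = n := Fintype.card_fin n
  obtain ⟨c, hc, hck⟩ := exists_mixed hdim a b ha hb
  have hrad : ∀ k, k ≤ n → ∀ T : Fin n → ℕ, (∀ i, 0 < T i) →
      (gen (mix k (fun i => a i ^ T i) c)).radical = maximalIdeal R := by
    intro k hk T hT
    rw [← hck k hk, ← radical_gen_pow (mix k a c) (fun i => if (i : ℕ) < k then T i else 1)
      (fun i => by split_ifs <;> first | exact hT i | exact one_pos)]
    congr 3
    funext i
    simp only [mix]
    split_ifs <;> simp
  suffices h : ∀ j, j ≤ n → ∀ T : Fin n → ℕ, (∀ i, 0 < T i) →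
      LocCoh.IsTightlyClosed p (gen (mix (n - j) (fun i => a i ^ T i) c)) by
    have := h n le_rfl (fun _ => 1) (fun _ => one_pos)
    rwa [show mix (n - n) _ c = c from funext fun i => if_neg (by omega), hc] at this
  intro j
  induction j with
  | zero =>
    intro _ T hT
    rw [show mix (n - 0) (fun i => a i ^ T i) c = fun i => a i ^ T i from funext fun i => if_pos (by omega)]
    exact tightlyClosed_pow p hn hdim a ha hq T hT
  | succ j ih =>
    intro hj T hT
    let i : Fin n := ⟨n - (j + 1), by omega⟩
    let v := mix (n - (j + 1)) (fun i => a i ^ T i) c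
    obtain ⟨m, hm⟩ : ∃ m, a i ^ m ∈ gen v := by
      have : a i ∈ (gen v).radical := by
        rw [hrad _ (by omega) T hT, ← ha]
        exact le_radical (subset_span ⟨i, rfl⟩)
      exact mem_radical_iff.1 this
    let T' := Function.update T i (m + 1)
    have hT' : ∀ l, 0 < T' l := fun l => by
      rcases eq_or_ne l i with rfl | h
      · simp [T']
      · simp only [T', Function.update_of_ne h]; exact hT l
    have hw : mix (n - j) (fun l => a l ^ T' l) c = Function.update v i (a i ^ (m + 1)) := by
      funext l
      rcases eq_or_ne l i with rfl | h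
      · rw [Function.update_self]
        simp only [mix, T', Function.update_self]
        exact if_pos (by simp only [i]; omega)
      · have hl' : (l : ℕ) ≠ n - (j + 1) := fun e => h (Fin.ext e)
        rw [Function.update_of_ne h]
        simp only [mix, v, T', Function.update_of_ne h]
        split_ifs <;> first | rfl | omega
    refine tightlyClosed_of_update p hn hdim v i (a i ^ (m + 1)) ?_ ?_ ?_
    · rw [pow_succ]; exact Ideal.mul_mem_right _ _ hm
    · rw [← hw]; exact hrad _ (by omega) T' hT'
    · rw [← hw]; exact ih (by omega) T' hT'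

/-- So are the ideals of initial segments. -/
theorem tightlyClosed_segment (hdim : ringKrullDim R = n) (a b : Fin n → R)
    (ha : (gen a).radical = maximalIdeal R) (hb : (gen b).radical = maximalIdeal R)
    (hq : LocCoh.IsTightlyClosed p (gen a)) (i : ℕ) :
    LocCoh.IsTightlyClosed p (span (b '' {j : Fin n | (j : ℕ) < i})) := by
  intro x hx
  let I := span (b '' {j : Fin n | (j : ℕ) < i})
  have h1 : ∀ m, x ∈ I ⊔ maximalIdeal R ^ m := fun m => by
    let t : Fin n → ℕ := fun j => if (j : ℕ) < i then 1 else m + 1
    have ht : ∀ j, 0 < t j := fun j => by simp only [t]; split_ifs <;> omega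
    have htc := tightlyClosed_of_sop p hdim a (fun j => b j ^ t j) ha
      (by rw [radical_gen_pow b t ht, hb]) hq
    have hle : I ≤ gen fun j => b j ^ t j := span_le.2 (by
      rintro _ ⟨j, hj, rfl⟩
      exact subset_span ⟨j, by simp only [t, if_pos (Set.mem_setOf_eq ▸ hj), pow_one]⟩)
    refine (span_le.2 ?_ : gen (fun j => b j ^ t j) ≤ I ⊔ maximalIdeal R ^ m) (htc (tightClosure_mono p hle hx))
    rintro _ ⟨j, rfl⟩
    by_cases hj : (j : ℕ) < i
    · exact mem_sup_left (subset_span ⟨j, hj, by simp [t, hj]⟩)
    · refine mem_sup_right (Ideal.pow_le_pow_right (Nat.le_succ m) ?_)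
      simp only [t, if_neg hj]
      exact Ideal.pow_mem_pow (hb ▸ le_radical (subset_span ⟨j, rfl⟩)) (m + 1)
  have h2 : (Submodule.Quotient.mk x : R ⧸ I) ∈ ⨅ m : ℕ, maximalIdeal R ^ m • (⊤ : Submodule R (R ⧸ I)) := by
    refine Submodule.mem_iInf _ |>.2 fun m => ?_
    obtain ⟨u, hu, w, hw, rfl⟩ := Submodule.mem_sup.1 (h1 m)
    rw [Submodule.Quotient.mk_add, (Submodule.Quotient.mk_eq_zero _).2 hu, zero_add,
      show (Submodule.Quotient.mk w : R ⧸ I) = w • Submodule.Quotient.mk 1 by
        rw [← Submodule.Quotient.mk_smul, smul_eq_mul, mul_one]]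
    exact Submodule.smul_mem_smul hw Submodule.mem_top
  rw [Ideal.iInf_pow_smul_eq_bot_of_le_jacobson _ (jacobson_eq_maximalIdeal ⊥ bot_ne_top).ge] at h2
  exact (Submodule.Quotient.mk_eq_zero _).1 h2

end TCLib
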