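import Groth.Agent.SMTLib.CMQuot
import Groth.Prelude.Def_W4bk5brsh16IT
import Mathlib.Algebra.CharP.Frobenius
import Mathlib.RingTheory.Ideal.KrullsHeightTheorem

/-! Tight closure of parameter ideals in Cohen-Macaulay local rings. -/

set_option autoImplicit false
universe u

open IsLocalRing Ideal

namespace TCLib

variable {R : Type u} [CommRing R] {ι : Type}

/-- The ideal generated by the members of a family other than the `i`-th. -/
def rest (v : ι → R) (i : ι) : Ideal R := span (v '' {i}ᶜ)

/-- The ideal generated by a family. -/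
abbrev gen (v : ι → R) : Ideal R := span (Set.range v)

theorem gen_eq (v : ι → R) (i : ι) : gen v = span {v i} ⊔ rest v i := by
  rw [rest, ← span_union, ← Set.image_singleton, ← Set.image_union, Set.union_compl_self, Set.image_univ]

theorem rest_congr [DecidableEq ι] (v : ι → R) (i : ι) (y : R) : rest (Function.update v i y) i = rest v i := by
  refine congrArg span (Set.image_congr fun j hj => Function.update_of_ne hj _ _)

theorem gen_update [DecidableEq ι] (v : ι → R) (i : ι) (y : R) :
    gen (Function.update v i y) = span {y} ⊔ rest v i := by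
  rw [gen_eq _ i, Function.update_self, rest_congr]

theorem radical_gen_pow [Finite ι] (v : ι → R) (t : ι → ℕ) (ht : ∀ i, 0 < t i) :
    (gen fun i => v i ^ t i).radical = (gen v).radical := by
  refine le_antisymm (radical_mono (span_le.2 ?_)) (radical_le_radical_iff.2 (span_le.2 ?_))
  · rintro _ ⟨i, rfl⟩
    exact Ideal.pow_mem_of_mem _ ((show v i ∈ gen v from subset_span ⟨i, rfl⟩)) _ (ht i)
  · rintro _ ⟨i, rfl⟩
    exact mem_radical_iff.2 ⟨t i, subset_span ⟨i, rfl⟩⟩

section Frob

variable (p : ℕ) [Fact p.Prime] [CharP R p]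

theorem frobPow_span (S : Set R) (e : ℕ) :
    LocCoh.frobPow (span S) (p ^ e) = span ((fun x => x ^ p ^ e) '' S) := by
  haveI : ExpChar R p := ExpChar.prime Fact.out
  refine le_antisymm (span_le.2 ?_) (span_mono ?_)
  · rintro _ ⟨y, hy, rfl⟩
    have := Ideal.mem_map_of_mem (iterateFrobenius R p e) hy
    rw [Ideal.map_span] at this
    rw [SetLike.mem_coe, ← iterateFrobenius_def p e y]
    refine span_mono ?_ this
    rintro _ ⟨x, hx, rfl⟩
    exact ⟨x, hx, (iterateFrobenius_def p e x).symm⟩
  · rintro _ ⟨x, hx, rfl⟩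
    exact ⟨x, subset_span hx, rfl⟩

theorem frobPow_gen (v : ι → R) (e : ℕ) :
    LocCoh.frobPow (gen v) (p ^ e) = gen fun i => v i ^ p ^ e := by
  rw [frobPow_span, ← Set.range_comp]; rfl

theorem pow_mem_frobPow {I : Ideal R} {x : R} (hx : x ∈ I) (q : ℕ) : x ^ q ∈ LocCoh.frobPow I q :=
  subset_span ⟨x, hx, rfl⟩

theorem tightClosure_mono {I J : Ideal R} (h : I ≤ J) : LocCoh.tightClosure p I ⊆ LocCoh.tightClosure p J := by
  rintro x ⟨c, hc, e₀, he⟩
  exact ⟨c, hc, e₀, fun e hee => span_mono (by rintro _ ⟨y, hy, rfl⟩; exact ⟨y, h hy, rfl⟩) (he e hee)⟩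

end Frob

variable [LocCoh.IsCohenMacaulayLocalRing R] [Fintype ι] [DecidableEq ι]

/-- A member of a system of parameters is regular modulo the others. -/
theorem mem_rest_of_mul_mem {n : ℕ} (hn : Fintype.card ι = n) (hdim : ringKrullDim R = n) (v : ι → R)
    (hv : (gen v).radical = maximalIdeal R) (i : ι) {x : R} (hx : v i * x ∈ rest v i) : x ∈ rest v i := by
  classical
  let l := ((Finset.univ.erase i).toList.map v)
  let rs := l ++ [v i]
  have hl : Ideal.ofList l = rest v i := by
    refine congrArg span ?_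
    ext r
    simp [l, eq_comm]
  have hrs : Ideal.ofList rs = gen v := by
    rw [gen_eq v i, Ideal.ofList_append, hl, Ideal.ofList_singleton, sup_comm]
  have hlen : rs.length = n := by
    simp only [rs, l, List.length_append, List.length_map, Finset.length_toList, List.length_singleton,
      Finset.card_erase_of_mem (Finset.mem_univ i), Finset.card_univ, hn]
    have : 0 < Fintype.card ι := Fintype.card_pos_iff.2 ⟨i⟩
    omega
  have hm : ∀ r ∈ rs, r ∈ maximalIdeal R := fun r hr => hv ▸ le_radical (hrs ▸ subset_span hr)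
  have h0 : ringKrullDim (R ⧸ Ideal.ofList rs) ≤ 0 := by
    rw [hrs]
    have : Ring.KrullDimLE 0 (R ⧸ gen v) := Ring.krullDimLE_zero_iff.2 fun P hP => by
      have hle : maximalIdeal R ≤ P.comap (Ideal.Quotient.mk (gen v)) := by
        rw [← hv]
        refine (hP.comap _).radical_le_iff.2 fun z hz => ?_
        rw [mem_comap, Quotient.eq_zero_iff_mem.2 hz]
        exact zero_mem _
      have := (maximalIdeal.isMaximal R).eq_of_le (hP.comap (Ideal.Quotient.mk (gen v))).ne_top hle
      rw [← map_comap_of_surjective (Ideal.Quotient.mk (gen v)) Ideal.Quotient.mk_surjective P, ← this]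
      exact (Ideal.map_eq_top_or_isMaximal_of_surjective (Ideal.Quotient.mk (gen v)) Ideal.Quotient.mk_surjective
        (maximalIdeal.isMaximal R)).resolve_left fun h => hP.ne_top (by
          rw [← map_comap_of_surjective (Ideal.Quotient.mk (gen v)) Ideal.Quotient.mk_surjective P, ← this, h])
    exact Ring.krullDimLE_iff.1 this
  have hreg := CommAlgDim.isRegular_of_dim (SMTLib.isCM_of_isCohenMacaulayLocalRing R) hm
    ((add_le_add_left h0 _).trans (by rw [zero_add, hlen, hdim]))
  have h1 := ((RingTheory.Sequence.isWeaklyRegular_append_iff R l [v i]).1 hreg.toIsWeaklyRegular).2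
  have h2 := (RingTheory.Sequence.isWeaklyRegular_singleton_iff _ _).1 h1
  have h3 : (Submodule.Quotient.mk x : R ⧸ (Ideal.ofList l • ⊤ : Submodule R R)) = 0 := by
    refine h2 ?_
    show v i • _ = v i • _
    rw [smul_zero, ← Submodule.Quotient.mk_smul, Submodule.Quotient.mk_eq_zero, smul_eq_mul, smul_eq_mul,
      Ideal.mul_top, hl]
    exact hx
  rw [Submodule.Quotient.mk_eq_zero, smul_eq_mul, Ideal.mul_top, hl] at h3
  exact h3

variable (p : ℕ) [Fact p.Prime] [CharP R p] {n : ℕ}

theorem mem_rest_pow_of_mul_mem (hn : Fintype.card ι = n) (hdim : ringKrullDim R = n) (v : ι → R)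
    (hv : (gen v).radical = maximalIdeal R) (i : ι) (e : ℕ) {x : R}
    (hx : v i ^ p ^ e * x ∈ rest (fun j => v j ^ p ^ e) i) : x ∈ rest (fun j => v j ^ p ^ e) i :=
  mem_rest_of_mul_mem hn hdim (fun j => v j ^ p ^ e) (by
    rw [radical_gen_pow v (fun _ => p ^ e) fun _ => pow_pos (Fact.out : p.Prime).pos e, hv]) i hx

/-- Products in one place. -/
theorem tightlyClosed_update_mul (hn : Fintype.card ι = n) (hdim : ringKrullDim R = n) (v : ι → R) (i : ι)
    (y z : R) (hsy : (gen (Function.update v i y)).radical = maximalIdeal R)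
    (hy : LocCoh.IsTightlyClosed p (gen (Function.update v i y)))
    (hz : LocCoh.IsTightlyClosed p (gen (Function.update v i z))) :
    LocCoh.IsTightlyClosed p (gen (Function.update v i (y * z))) := by
  haveI : ExpChar R p := ExpChar.prime Fact.out
  rintro x ⟨c, hc, e₀, he⟩
  have hle : gen (Function.update v i (y * z)) ≤ gen (Function.update v i y) := by
    rw [gen_update, gen_update]
    exact sup_le_sup_right (span_singleton_le_span_singleton.2 ⟨z, rfl⟩) _
  have hx : x ∈ gen (Function.update v i y) := hy (tightClosure_mono p hle ⟨c, hc, e₀, he⟩)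
  rw [gen_update] at hx
  obtain ⟨_, hw', f, hf, rfl⟩ := Submodule.mem_sup.1 hx
  obtain ⟨w, rfl⟩ := mem_span_singleton'.1 hw'
  have hfmem : f ∈ gen (Function.update v i (y * z)) := by
    rw [gen_update]; exact mem_sup_right hf
  have key : w ∈ gen (Function.update v i z) := hz ⟨c, hc, e₀, fun e hee => by
    have h1 := sub_mem (he e hee) (Ideal.mul_mem_left _ c (pow_mem_frobPow hfmem (p ^ e)))
    rw [show w * y + f = f + w * y from add_comm _ _, add_pow_expChar_pow, mul_add, add_sub_cancel_left] at h1
    rw [frobPow_gen, gen_eq _ i] at h1 ⊢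
    have hr : ∀ r, rest (fun j => Function.update v i r j ^ p ^ e) i = rest (fun j => v j ^ p ^ e) i :=
      fun r => congrArg span (Set.image_congr fun j hj => by rw [Function.update_of_ne hj])
    simp only [Function.update_self, hr] at h1 ⊢
    obtain ⟨_, hs', g, hg, hsg⟩ := Submodule.mem_sup.1 h1
    obtain ⟨s, rfl⟩ := mem_span_singleton'.1 hs'
    have h2 : y ^ p ^ e * (c * w ^ p ^ e - s * z ^ p ^ e) ∈ rest (fun j => v j ^ p ^ e) i := by
      have : y ^ p ^ e * (c * w ^ p ^ e - s * z ^ p ^ e) = g := by linear_combination -hsg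
      rw [this]; exact hg
    have h3 := mem_rest_pow_of_mul_mem p hn hdim (Function.update v i y) hsy i e (by
      rw [Function.update_self, hr]; exact h2)
    rw [hr] at h3
    exact Submodule.mem_sup.2 ⟨_, mem_span_singleton'.2 ⟨s, rfl⟩, _, h3, by ring⟩⟩
  rw [gen_update] at key
  obtain ⟨_, ha', b, hb, rfl⟩ := Submodule.mem_sup.1 key
  obtain ⟨a, rfl⟩ := mem_span_singleton'.1 ha'
  rw [gen_update, SetLike.mem_coe]
  exact Submodule.mem_sup.2 ⟨_, mem_span_singleton'.2 ⟨a, rfl⟩, _, add_mem (Ideal.mul_mem_left _ y hb) hf, by ring⟩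

/-- Enlarging one member. -/
theorem tightlyClosed_of_update (hn : Fintype.card ι = n) (hdim : ringKrullDim R = n) (v : ι → R) (i : ι)
    (z : R) (hzv : z ∈ gen v) (hs : (gen (Function.update v i z)).radical = maximalIdeal R)
    (hz : LocCoh.IsTightlyClosed p (gen (Function.update v i z))) : LocCoh.IsTightlyClosed p (gen v) := by
  haveI : ExpChar R p := ExpChar.prime Fact.out
  rintro x ⟨c, hc, e₀, he⟩
  rw [gen_eq v i] at hzv
  obtain ⟨_, hu', g, hg, hug⟩ := Submodule.mem_sup.1 hzv
  obtain ⟨u, rfl⟩ := mem_span_singleton'.1 hu'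
  have hux : u * x ∈ gen (Function.update v i z) := hz ⟨c, hc, e₀, fun e hee => by
    have h1 := he e hee
    rw [frobPow_gen, gen_eq _ i] at h1 ⊢
    have hr : rest (fun j => Function.update v i z j ^ p ^ e) i = rest (fun j => v j ^ p ^ e) i :=
      congrArg span (Set.image_congr fun j hj => by rw [Function.update_of_ne hj])
    simp only [Function.update_self, hr] at h1 ⊢
    obtain ⟨_, hs', f, hf, hsf⟩ := Submodule.mem_sup.1 h1
    obtain ⟨s, rfl⟩ := mem_span_singleton'.1 hs'
    have hgq : g ^ p ^ e ∈ rest (fun j => v j ^ p ^ e) i := by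
      have := pow_mem_frobPow hg (p ^ e)
      rw [rest, frobPow_span, Set.image_image] at this
      exact this
    have hzq : z ^ p ^ e = u ^ p ^ e * v i ^ p ^ e + g ^ p ^ e := by
      rw [← hug, add_pow_expChar_pow, mul_pow]
    exact Submodule.mem_sup.2 ⟨_, mem_span_singleton'.2 ⟨s, rfl⟩, u ^ p ^ e * f - s * g ^ p ^ e,
      sub_mem (Ideal.mul_mem_left _ _ hf) (Ideal.mul_mem_left _ _ hgq), by
        rw [mul_pow]; linear_combination u ^ p ^ e * hsf + s * hzq⟩⟩
  rw [gen_update] at hux
  obtain ⟨_, hs', f, hf, hsf⟩ := Submodule.mem_sup.1 hux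
  obtain ⟨s, rfl⟩ := mem_span_singleton'.1 hs'
  have h4 : z * (x - s * v i) ∈ rest v i := by
    have : z * (x - s * v i) = g * (x - s * v i) + (f * v i + s * g * v i) := by
      linear_combination (-x) * hug - v i * hsf
    rw [this]
    exact add_mem (Ideal.mul_mem_right _ _ hg) (add_mem (Ideal.mul_mem_right _ _ hf)
      (Ideal.mul_mem_right _ _ (Ideal.mul_mem_left _ _ hg)))
  have h5 := mem_rest_of_mul_mem hn hdim (Function.update v i z) hs i (x := x - s * v i) (by
    rw [Function.update_self, rest_congr]; exact h4)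
  rw [rest_congr] at h5
  rw [SetLike.mem_coe, gen_eq v i]
  exact Submodule.mem_sup.2 ⟨_, mem_span_singleton'.2 ⟨s, rfl⟩, _, h5, by ring⟩

/-- Powers of a tightly closed system of parameters. -/
theorem tightlyClosed_pow (hn : Fintype.card ι = n) (hdim : ringKrullDim R = n) (a : ι → R)
    (hsop : (gen a).radical = maximalIdeal R) (hq : LocCoh.IsTightlyClosed p (gen a)) :
    ∀ t : ι → ℕ, (∀ i, 0 < t i) → LocCoh.IsTightlyClosed p (gen fun i => a i ^ t i) := by
  suffices h : ∀ N, ∀ t : ι → ℕ, ∑ i, t i = N → (∀ i, 0 < t i) → LocCoh.IsTightlyClosed p (gen fun i => a i ^ t i) from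
    fun t ht => h _ t rfl ht
  intro N
  induction N using Nat.strong_induction_on with
  | _ N ih =>
    intro t hN ht
    by_cases h1 : ∀ i, t i = 1
    · simpa [h1] using hq
    push Not at h1
    obtain ⟨i, hi⟩ := h1
    have hup : ∀ m, (fun j => a j ^ Function.update t i m j) = Function.update (fun j => a j ^ t j) i (a i ^ m) :=
      fun m => funext fun j => by rcases eq_or_ne j i with rfl | h <;> simp [*]
    have hlt : ∀ m, m < t i → ∑ j, Function.update t i m j < N := fun m hm => by
      rw [← hN]
      refine Finset.sum_lt_sum (fun j _ => ?_) ⟨i, Finset.mem_univ _, by rwa [Function.update_self]⟩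
      rcases eq_or_ne j i with rfl | h
      · rw [Function.update_self]; exact hm.le
      · rw [Function.update_of_ne h]
    have hpos : ∀ m, 0 < m → ∀ j, 0 < Function.update t i m j := fun m hm j => by
      rcases eq_or_ne j i with rfl | h
      · rwa [Function.update_self]
      · rw [Function.update_of_ne h]; exact ht j
    have := ht i
    have key := tightlyClosed_update_mul p hn hdim (fun j => a j ^ t j) i (a i ^ (t i - 1)) (a i)
      (by rw [← hup, radical_gen_pow a _ (hpos _ (by omega)), hsop])
      (by rw [← hup]; exact ih _ (hlt _ (by omega)) _ rfl (hpos _ (by omega)))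
      (by rw [← pow_one (a i), ← hup]; exact ih _ (hlt _ (by omega)) _ rfl (hpos _ one_pos))
    rwa [← pow_succ, Nat.sub_add_cancel (ht i), ← hup, Function.update_eq_self] at key

end TCLib
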